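import Cfsg.Agent.Spor.Chk

set_option autoImplicit false
set_option maxRecDepth 100000000
set_option Elab.async false
noncomputable section

namespace Cfsg.Agent.Spor.Fi28

def m0_0 : Nat := nat_lit 0x2
def m0_1 : Nat := nat_lit 0x3
def m0_2 : Nat := nat_lit 0x20200
def m0_3 : Nat := nat_lit 0x13020
def m0_4 : Nat := nat_lit 0x10401
def m0_5 : Nat := nat_lit 0x10000
def m0_6 : Nat := nat_lit 0x20200
def m0_7 : Nat := nat_lit 0x3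
def m0_8 : Nat := nat_lit 0x2
def n0 : Net := Net.cons 16 m0_0 (Net.cons 8 m0_1 (Net.cons 4 m0_2 (Net.cons 2 m0_3 (Net.cons 1 m0_4 (Net.cons 2 m0_5 (Net.cons 4 m0_6 (Net.cons 8 m0_7 (Net.cons 16 m0_8 (Net.nil)))))))))

def m1_0 : Nat := nat_lit 0x1
def m1_1 : Nat := nat_lit 0x10041
def m1_2 : Nat := nat_lit 0x30304
def m1_3 : Nat := nat_lit 0x1201
def m1_4 : Nat := nat_lit 0x110010
def m1_5 : Nat := nat_lit 0x304
def m1_6 : Nat := nat_lit 0x10000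
def m1_7 : Nat := nat_lit 0x1
def n1 : Net := Net.cons 16 m1_0 (Net.cons 8 m1_1 (Net.cons 4 m1_2 (Net.cons 2 m1_3 (Net.cons 1 m1_4 (Net.cons 4 m1_5 (Net.cons 8 m1_6 (Net.cons 16 m1_7 (Net.nil))))))))

def m2_0 : Nat := nat_lit 0x1
def m2_1 : Nat := nat_lit 0x1110301
def m2_2 : Nat := nat_lit 0x40004
def m2_3 : Nat := nat_lit 0x10001
def m2_4 : Nat := nat_lit 0x1
def n2 : Net := Net.cons 4 m2_0 (Net.cons 2 m2_1 (Net.cons 1 m2_2 (Net.cons 2 m2_3 (Net.cons 4 m2_4 (Net.nil)))))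

def m3_0 : Nat := nat_lit 0x1
def m3_1 : Nat := nat_lit 0x20001
def m3_2 : Nat := nat_lit 0x20600
def m3_3 : Nat := nat_lit 0x101000
def m3_4 : Nat := nat_lit 0x4100504
def m3_5 : Nat := nat_lit 0x100000
def m3_6 : Nat := nat_lit 0x20600
def m3_7 : Nat := nat_lit 0x20001
def m3_8 : Nat := nat_lit 0x1
def n3 : Net := Net.cons 16 m3_0 (Net.cons 8 m3_1 (Net.cons 4 m3_2 (Net.cons 2 m3_3 (Net.cons 1 m3_4 (Net.cons 2 m3_5 (Net.cons 4 m3_6 (Net.cons 8 m3_7 (Net.cons 16 m3_8 (Net.nil)))))))))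

def m4_0 : Nat := nat_lit 0x4000
def m4_1 : Nat := nat_lit 0x480000
def m4_2 : Nat := nat_lit 0x40b0000
def m4_3 : Nat := nat_lit 0x101001
def m4_4 : Nat := nat_lit 0x4104001
def m4_5 : Nat := nat_lit 0x101001
def m4_6 : Nat := nat_lit 0x4020000
def m4_7 : Nat := nat_lit 0x480000
def m4_8 : Nat := nat_lit 0x4000
def n4 : Net := Net.cons 16 m4_0 (Net.cons 8 m4_1 (Net.cons 4 m4_2 (Net.cons 2 m4_3 (Net.cons 1 m4_4 (Net.cons 2 m4_5 (Net.cons 4 m4_6 (Net.cons 8 m4_7 (Net.cons 16 m4_8 (Net.nil)))))))))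

def m5_0 : Nat := nat_lit 0x4
def m5_1 : Nat := nat_lit 0x50004
def m5_2 : Nat := nat_lit 0x70400
def m5_3 : Nat := nat_lit 0x2000000
def m5_4 : Nat := nat_lit 0x4001
def m5_5 : Nat := nat_lit 0x400
def m5_6 : Nat := nat_lit 0x50004
def m5_7 : Nat := nat_lit 0x4
def n5 : Net := Net.cons 16 m5_0 (Net.cons 8 m5_1 (Net.cons 4 m5_2 (Net.cons 2 m5_3 (Net.cons 1 m5_4 (Net.cons 4 m5_5 (Net.cons 8 m5_6 (Net.cons 16 m5_7 (Net.nil))))))))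

def m6_0 : Nat := nat_lit 0x400003
def m6_1 : Nat := nat_lit 0x8080002
def m6_2 : Nat := nat_lit 0x1000030
def m6_3 : Nat := nat_lit 0x41000001
def m6_4 : Nat := nat_lit 0x1000000
def m6_5 : Nat := nat_lit 0x8000002
def m6_6 : Nat := nat_lit 0x400003
def n6 : Net := Net.cons 8 m6_0 (Net.cons 4 m6_1 (Net.cons 2 m6_2 (Net.cons 1 m6_3 (Net.cons 2 m6_4 (Net.cons 4 m6_5 (Net.cons 8 m6_6 (Net.nil)))))))

def ip1 : List Nat := [0x335708a, 0xfd97f58, 0x9b7a346]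
def l1 : Let := ⟨0, false, 0xfffffff, 0x80, [0xe1aac94, 0xfe42f46, 0x26f058, 0xfd90000]⟩

def ip2 : List Nat := [0xcdaa564, 0x65bd68c, 0xdec07c2]
def l2 : Let := ⟨1, false, 0xfffffff, 0x2020, [0xe1e3224, 0xed357c6, 0x1201688, 0xecc8000]⟩

def ip3 : List Nat := [0x8daac74, 0xad2d0c4, 0xfa47062]
def l3 : Let := ⟨2, false, 0xfffffff, 0x80c10, [0xf0e1c74, 0xff01086, 0x10e0, 0xaa6e000]⟩

def ip4 : List Nat := [0x293d368, 0x1a80b0, 0xdbe8352]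
def l4 : Let := ⟨3, false, 0xfffffff, 0x2015008, [0x30f5268, 0x1b00382, 0xc0003f0, 0xdbe8000]⟩

def ip5 : List Nat := [0xdf6a364, 0x72420a8, 0xfa40f58]
def l5 : Let := ⟨4, false, 0xfffffff, 0x528004, [0x156a66c, 0xba00788, 0x40007f0, 0x7242800]⟩

def ip6 : List Nat := [0x7a5702e, 0x8023e4, 0x895f5c, 0xa000000]
def l6 : Let := ⟨5, false, 0xfffffff, 0x5240002, [0xf2c666a, 0xa09078c, 0x8007f0, 0xa897800]⟩

def ip7 : List Nat := [0xfa5534a, 0x17c08, 0x7368c06]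
def l7 : Let := ⟨6, false, 0xfffffff, 0x8800340, [0x9871b44, 0x1301c06, 0x6001c08, 0x737e000]⟩

def NT : List Net := [n0, n1, n2, n3, n4, n5, n6]
def LT : List Let := [⟨0, false, 0, 0, []⟩, l1, l2, l3, l4, l5, l6, l7]
def T : Tab := ⟨NT, LT⟩
def EX : List (List Nat) := [[], [0], [2], [4], [6], [8], [10], [12]]
def RL : List (List Nat) := [[0, 2, 0, 2, 0, 2], [0, 4, 0, 4], [0, 6, 0, 6], [0, 8, 0, 8], [0, 10, 0, 10], [0, 12, 0, 12], [2, 4, 2, 4, 2, 4], [2, 6, 2, 6], [2, 8, 2, 8], [2, 10, 2, 10], [2, 12, 2, 12], [4, 6, 4, 6, 4, 6], [4, 8, 4, 8], [4, 10, 4, 10], [4, 12, 4, 12, 4, 12], [6, 8, 6, 8, 6, 8], [6, 10, 6, 10], [6, 12, 6, 12], [8, 10, 8, 10, 8, 10], [8, 12, 8, 12], [10, 12, 10, 12], [0, 2, 4, 6, 8, 10, 12, 0, 2, 4, 6, 8, 10, 12, 0, 2, 4, 6, 8, 10, 12, 0, 2, 4, 6, 8, 10, 12, 0, 2, 4, 6, 8, 10, 12, 0, 2, 4, 6, 8, 10, 12, 0, 2, 4, 6, 8, 10, 12, 0,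 2, 4, 6, 8, 10, 12, 0, 2, 4, 6, 8, 10, 12]]
def XL : List (List Nat) := []
def BW : List (List Nat) := [[0], [2], [4], [6], [8], [12]]
def IV : Nat := 0x706050403020100
def L : List Nat := [1, 2, 3, 4, 5, 6, 7]
def gs : List Nat := [1, 2, 3, 4, 5, 6, 7]
def base : List Nat := [1, 2, 3, 4, 5, 7]

end Cfsg.Agent.Spor.Fi28
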